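import Cfsg.Agent.H477.HC.Levi
import Cfsg.Agent.H477.HC.Arith_m3
import Cfsg.Agent.H576.Ext.Defs
import Cfsg.Agent.H477.HC.RowSp
import Cfsg.Agent.ClassicalGeometry.SympAutExists
import Cfsg.Agent.ClassicalGeometry.SympAutOddA
import Cfsg.Agent.S0269
import Cfsg.Agent.ClassicalGeometry.PSUAutMain
import Cfsg.Agent.ClassicalGeometry.PSUAutCount
import Cfsg.Agent.LieClassical.HermPerfect
import Cfsg.Agent.FastGrp
import Cfsg.Agent.Prune
set_option linter.all false

section
prune_inst 0x7f00000000000000000000000000000000000000000000000000000000000000000000000000000000000000000000000000000000000000000000000000000000000000000000000000000000000000003fffffffffffffffffffffffffffbeffbdffffffff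

-- part: H576/Ext/HcDefs
section
set_option linter.all false

/-!
# Two-parameter orthogonality of Harish-Chandra induced characters: definitions (helper576, S4832)

* `DL D k` : the matrices of `GL_k(K)` of determinant in `D`;
* `DOrth D c c'` : `c`, `c'` are orthogonal on `DL D k`; `DIrr D c` : `c` is irreducible on `DL D k`;
* `HasRoots F N` : `N` contains the root elements of `F.iso`;
* `HasLevi F N D k` : `N` contains the elements `a ⊕ a* ⊕ 1`, `a ∈ GL(W)`, `dim W = k`, `det a ∈ D`;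
* `fmap τ c` : the character `A ↦ c (τ A)`;
* `dualc σ c` : the character `A ↦ c (σ A⁻ᵀ)`.
-/

set_option autoImplicit false

open scoped ComplexConjugate
open Cfsg

namespace Cfsg.Agent.H576.Ext

open Cfsg.Agent.H477.HC Cfsg.Agent.H53.HC Cfsg.Agent.Characters Module

universe u v w

variable {K : Type u} [Field K]

/-- the matrices of determinant in `D` -/
def DL (D : Subgroup Kˣ) (k : ℕ) : Subgroup (GL (Fin k) K) := D.comap Matrix.GeneralLinearGroup.det

/-- orthogonality on `DL D k` -/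
def DOrth (D : Subgroup Kˣ) {k : ℕ} (c c' : GL (Fin k) K → ℂ) : Prop :=
  ∀ [Fintype (DL D k)], ∑ A : DL D k, c A * conj (c' A) = 0

/-- irreducibility on `DL D k` -/
def DIrr (D : Subgroup Kˣ) {k : ℕ} (c : GL (Fin k) K → ℂ) : Prop :=
  IsIrrCharacter (DL D k) (fun A => c A)

/-- `A ↦ c (τ A)` -/
def fmap (τ : K →+* K) {k : ℕ} (c : GL (Fin k) K → ℂ) : GL (Fin k) K → ℂ :=
  c ∘ Matrix.GeneralLinearGroup.map τ

/-- `A ↦ c (σ A⁻ᵀ)` -/
def dualc (σ : K →+* K) {k : ℕ} (c : GL (Fin k) K → ℂ) : GL (Fin k) K → ℂ :=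
  c ∘ ((Matrix.GeneralLinearGroup.map σ).comp (invT k))

variable {V : Type v} [AddCommGroup V] [Module K V] (F : CForm K V)

/-- `N` contains the root elements (of linearly independent pairs) -/
def HasRoots (N : Subgroup F.iso) : Prop :=
  ∀ x b : V, F.Sing x → F.Sing b → F.B x b = 0 → (∃ w, F.B w x = 0 ∧ F.B w b ≠ 0) → ∀ g : F.iso,
    (∀ v, (g : V ≃ₗ[K] V) v = v + F.B v b • x - (F.ε⁻¹ * F.B v x) • b) → g ∈ N

/-- `N` contains the Levi elements of determinant in `D` -/
def HasLevi (N : Subgroup F.iso) (D : Subgroup Kˣ) (k : ℕ) : Prop :=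
  ∀ W ∈ F.Om k, ∀ W' ∈ F.Om k, W ⊓ F.perp W' = ⊥ → ∀ g : F.iso, g ∈ F.TT W → g ∈ F.TT W' →
    ∀ h : W.map (F.iso.subtype g : V →ₗ[K] V) = W, LinearEquiv.det (res (F.iso.subtype g) W h) ∈ D →
      (∀ v, (∀ w ∈ W, F.B v w = 0) → (∀ w ∈ W', F.B v w = 0) → (g : V ≃ₗ[K] V) v = v) → g ∈ N

end Cfsg.Agent.H576.Ext
end

-- part: H464/ExtSemi
section
set_option linter.all false
open scoped Cfsg.Agent.FastGrp

/-!
# Semisimilarities (S4832, EXT-R3, helper464)

* `Semi F` : the semisimilarities of the form `F` (statement of helper576's plan);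
* `Semi.conj` : conjugation `F.iso →* F.iso`; `semi_top`, `semi_comm` : `⊤` and the commutator subgroup are invariant;
* `SemiQ F N S` : `S = N / scalars`, every automorphism of `S` is induced by a semisimilarity.
-/

set_option autoImplicit false

open Cfsg

namespace Cfsg.Agent.H576.Ext

open Cfsg.Agent.H477.HC Cfsg.Agent.H53.HC Cfsg.Agent.Characters Module

universe u v w

variable {K : Type u} [Field K] {V : Type v} [AddCommGroup V] [Module K V] (F : CForm K V)

/-- a semisimilarity -/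
structure Semi where
  τ : K ≃+* K
  lam : K
  hlam : lam ≠ 0
  γ : V ≃+ V
  smul : ∀ (a : K) (v : V), γ (a • v) = τ a • γ v
  hB : ∀ v w, F.B (γ v) (γ w) = lam * τ (F.B v w)
  hQ : ∀ v, F.Q (γ v) = lam * τ (F.Q v)

namespace Semi

variable {F} (s : Semi F)

theorem symm_smul (a : K) (v : V) : s.γ.symm (s.τ a • v) = a • s.γ.symm v := by
  apply s.γ.injective
  rw [s.γ.apply_symm_apply, s.smul, s.γ.apply_symm_apply]

theorem symm_smul' (a : K) (v : V) : s.γ.symm (a • v) = s.τ.symm a • s.γ.symm v := by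
  have := s.symm_smul (s.τ.symm a) v
  rwa [s.τ.apply_symm_apply] at this

/-- the linear map `γ g γ⁻¹` -/
def clin (g : V ≃ₗ[K] V) : V ≃ₗ[K] V :=
  { (s.γ.symm.trans (g.toAddEquiv.trans s.γ)) with
    map_smul' := fun a v => by
      change s.γ (g (s.γ.symm (a • v))) = a • s.γ (g (s.γ.symm v))
      rw [s.symm_smul', map_smul, s.smul, s.τ.apply_symm_apply] }

theorem clin_apply (g : V ≃ₗ[K] V) (v : V) : s.clin g v = s.γ (g (s.γ.symm v)) := rfl

/-- conjugation by a semisimilarity -/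
def conj : F.iso →* F.iso where
  toFun g := ⟨s.clin g, by
    refine ⟨fun u v => ?_, fun v => ?_⟩
    · rw [clin_apply, clin_apply, s.hB, F.iso_B g, ← s.hB, s.γ.apply_symm_apply, s.γ.apply_symm_apply]
    · rw [clin_apply, s.hQ, F.iso_Q g, ← s.hQ, s.γ.apply_symm_apply]⟩
  map_one' := by
    apply Subtype.ext
    apply LinearEquiv.ext
    intro v
    change s.γ (s.γ.symm v) = v
    rw [s.γ.apply_symm_apply]
  map_mul' := fun g h => by
    apply Subtype.ext
    apply LinearEquiv.ext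
    intro v
    change s.γ ((g : V ≃ₗ[K] V) ((h : V ≃ₗ[K] V) (s.γ.symm v))) =
      s.γ ((g : V ≃ₗ[K] V) (s.γ.symm (s.γ ((h : V ≃ₗ[K] V) (s.γ.symm v)))))
    rw [s.γ.symm_apply_apply]

theorem conj_apply (g : F.iso) (v : V) : (s.conj g : V ≃ₗ[K] V) v = s.γ ((g : V ≃ₗ[K] V) (s.γ.symm v)) := rfl

theorem conj_γ (g : F.iso) (v : V) : (s.conj g : V ≃ₗ[K] V) (s.γ v) = s.γ ((g : V ≃ₗ[K] V) v) := by
  rw [conj_apply, s.γ.symm_apply_apply]

theorem eq_conj {g g' : F.iso} (h : ∀ v, (g' : V ≃ₗ[K] V) (s.γ v) = s.γ ((g : V ≃ₗ[K] V) v)) : g' = s.conj g := by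
  apply Subtype.ext
  apply LinearEquiv.ext
  intro v
  have := h (s.γ.symm v)
  rw [s.γ.apply_symm_apply] at this
  rw [this, conj_apply]

end Semi

variable {F}

theorem semi_top (s : Semi F) (n : (⊤ : Subgroup F.iso)) : ∃ n' : (⊤ : Subgroup F.iso), ∀ v,
    ((n' : F.iso) : V ≃ₗ[K] V) (s.γ v) = s.γ (((n : F.iso) : V ≃ₗ[K] V) v) :=
  ⟨⟨s.conj n, trivial⟩, fun v => s.conj_γ _ v⟩

theorem semi_comm (s : Semi F) (n : commutator F.iso) : ∃ n' : commutator F.iso, ∀ v,
    ((n' : F.iso) : V ≃ₗ[K] V) (s.γ v) = s.γ (((n : F.iso) : V ≃ₗ[K] V) v) := by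
  have h : (commutator F.iso).map s.conj ≤ commutator F.iso := by
    rw [commutator_def, Subgroup.map_commutator]
    exact Subgroup.commutator_mono le_top le_top
  exact ⟨⟨s.conj n, h ⟨n, n.2, rfl⟩⟩, fun v => s.conj_γ _ v⟩

variable (F)

/-- **`S = N / scalars`, all automorphisms of `S` are induced by semisimilarities** (the hypotheses of `ext_hc`) -/
structure SemiQ (N : Subgroup F.iso) (S : Type w) [Group S] where
  q : N →* S
  surj : Function.Surjective q
  ker : ∀ n : N, q n = 1 ↔ ∃ a : K, ∀ v, ((n : F.iso) : V ≃ₗ[K] V) v = a • v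
  inv : ∀ (s : Semi F) (n : N), ∃ n' : N, ∀ v,
    ((n' : F.iso) : V ≃ₗ[K] V) (s.γ v) = s.γ (((n : F.iso) : V ≃ₗ[K] V) v)

variable {F}

/-- `α` is induced by the semisimilarity `s` -/
def SemiQ.Ind {N : Subgroup F.iso} {S : Type w} [Group S] (D : SemiQ F N S) (s : Semi F) (α : MulAut S) : Prop :=
  ∀ n n' : N, (∀ v, ((n' : F.iso) : V ≃ₗ[K] V) (s.γ v) = s.γ (((n : F.iso) : V ≃ₗ[K] V) v)) → α (D.q n) = D.q n'

end Cfsg.Agent.H576.Ext
end

-- part: H464/ExtAutG
section
set_option linter.all false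
open scoped Cfsg.Agent.FastGrp

/-!
# The group of automorphisms induced by semisimilarities (S4832, EXT-R3, helper464)

`compS`, `symmS`, `isoS` : composition, inverse, isometries; `autG D` : the subgroup of `Aut S` of the automorphisms induced by
semisimilarities; it contains the inner automorphisms; `congrQ` : transport along an isomorphism.
-/

set_option autoImplicit false

open Cfsg

namespace Cfsg.Agent.H464.ExtR3

open Cfsg.Agent.H576.Ext Cfsg.Agent.H477.HC Module

universe u v w w'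

variable {K : Type u} [Field K] {V : Type v} [AddCommGroup V] [Module K V] {F : CForm K V}

/-- the inverse semisimilarity -/
def symmS (s : Semi F) : Semi F where
  τ := s.τ.symm
  lam := (s.τ.symm s.lam)⁻¹
  hlam := inv_ne_zero (by rw [Ne, map_eq_zero_iff _ s.τ.symm.injective]; exact s.hlam)
  γ := s.γ.symm
  smul := s.symm_smul'
  hB := fun v w => by
    have h0 : s.τ.symm s.lam ≠ 0 := by rw [Ne, map_eq_zero_iff _ s.τ.symm.injective]; exact s.hlam
    have h1 := s.hB (s.γ.symm v) (s.γ.symm w)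
    rw [s.γ.apply_symm_apply, s.γ.apply_symm_apply] at h1
    rw [h1, map_mul, s.τ.symm_apply_apply, inv_mul_cancel_left₀ h0]
  hQ := fun v => by
    have h0 : s.τ.symm s.lam ≠ 0 := by rw [Ne, map_eq_zero_iff _ s.τ.symm.injective]; exact s.hlam
    have h1 := s.hQ (s.γ.symm v)
    rw [s.γ.apply_symm_apply] at h1
    rw [h1, map_mul, s.τ.symm_apply_apply, inv_mul_cancel_left₀ h0]

/-- composition of semisimilarities (`compS s t = s ∘ t`) -/
def compS (s t : Semi F) : Semi F where
  τ := t.τ.trans s.τ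
  lam := s.lam * s.τ t.lam
  hlam := mul_ne_zero s.hlam (by rw [Ne, map_eq_zero_iff _ s.τ.injective]; exact t.hlam)
  γ := t.γ.trans s.γ
  smul := fun a v => by
    change s.γ (t.γ (a • v)) = s.τ (t.τ a) • s.γ (t.γ v)
    rw [t.smul, s.smul]
  hB := fun v w => by
    change F.B (s.γ (t.γ v)) (s.γ (t.γ w)) = s.lam * s.τ t.lam * s.τ (t.τ (F.B v w))
    rw [s.hB, t.hB, map_mul]
    ring
  hQ := fun v => by
    change F.Q (s.γ (t.γ v)) = s.lam * s.τ t.lam * s.τ (t.τ (F.Q v))
    rw [s.hQ, t.hQ, map_mul]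
    ring

/-- isometries -/
def isoS (g : F.iso) : Semi F where
  τ := RingEquiv.refl K
  lam := 1
  hlam := one_ne_zero
  γ := ((g : V ≃ₗ[K] V)).toAddEquiv
  smul := fun a v => map_smul (g : V ≃ₗ[K] V) a v
  hB := fun v w => by
    rw [one_mul]
    exact F.iso_B g v w
  hQ := fun v => by
    rw [one_mul]
    exact F.iso_Q g v

variable {N : Subgroup F.iso} {S : Type w} [Group S]

theorem ind_comp {D : SemiQ F N S} {s t : Semi F} {α β : MulAut S} (h : D.Ind s α) (h' : D.Ind t β) :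
    D.Ind (compS s t) (α * β) := by
  intro n n' hn
  obtain ⟨m, hm⟩ := D.inv t n
  rw [MulAut.mul_apply, h' n m hm]
  refine h m n' fun v => ?_
  have h1 := hn (t.γ.symm v)
  change ((n' : F.iso) : V ≃ₗ[K] V) (s.γ (t.γ (t.γ.symm v))) = s.γ (t.γ (((n : F.iso) : V ≃ₗ[K] V) (t.γ.symm v))) at h1
  rw [← hm, t.γ.apply_symm_apply] at h1
  exact h1

theorem ind_symm {D : SemiQ F N S} {s : Semi F} {α : MulAut S} (h : D.Ind s α) : D.Ind (symmS s) α⁻¹ := by
  intro n n' hn
  rw [← h n' n fun v => ?_, MulAut.inv_apply_self]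
  have h1 := hn (s.γ v)
  change ((n' : F.iso) : V ≃ₗ[K] V) (s.γ.symm (s.γ v)) = s.γ.symm (((n : F.iso) : V ≃ₗ[K] V) (s.γ v)) at h1
  rw [s.γ.symm_apply_apply] at h1
  rw [h1, s.γ.apply_symm_apply]

theorem ind_iso (D : SemiQ F N S) (m : N) : D.Ind (isoS (m : F.iso)) (MulAut.conj (D.q m)) := by
  intro n n' hn
  have e : n' * m = m * n := by
    apply Subtype.ext
    apply Subtype.ext
    apply LinearEquiv.ext
    intro v
    exact hn v
  rw [MulAut.conj_apply, ← map_mul, ← map_inv, ← map_mul, ← e, mul_inv_cancel_right]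

/-- the automorphisms induced by semisimilarities -/
def autG (D : SemiQ F N S) : Subgroup (MulAut S) where
  carrier := {α | ∃ s : Semi F, D.Ind s α}
  one_mem' := ⟨isoS 1, by
    have := ind_iso D 1
    rwa [map_one, map_one] at this⟩
  mul_mem' := by
    rintro α β ⟨s, hs⟩ ⟨t, ht⟩
    exact ⟨_, ind_comp hs ht⟩
  inv_mem' := by
    rintro α ⟨s, hs⟩
    exact ⟨_, ind_symm hs⟩

theorem mem_autG {D : SemiQ F N S} {α : MulAut S} : α ∈ autG D ↔ ∃ s : Semi F, D.Ind s α := Iff.rfl

theorem inn_le (D : SemiQ F N S) : (MulAut.conj (G := S)).range ≤ autG D := by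
  rintro _ ⟨t, rfl⟩
  obtain ⟨n, rfl⟩ := D.surj t
  exact ⟨_, ind_iso D n⟩

section Congr

variable {S' : Type w'} [Group S']

/-- transport along an isomorphism -/
def congrQ (D : SemiQ F N S) (e : S ≃* S') : SemiQ F N S' where
  q := e.toMonoidHom.comp D.q
  surj := e.surjective.comp D.surj
  ker := fun n => by
    rw [← D.ker n]
    change e (D.q n) = 1 ↔ _
    rw [map_eq_one_iff e e.injective]
  inv := D.inv

theorem congrQ_q (D : SemiQ F N S) (e : S ≃* S') (n : N) : (congrQ D e).q n = e (D.q n) := rfl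

theorem ind_congrQ {D : SemiQ F N S} (e : S ≃* S') {s : Semi F} {α : MulAut S'} :
    (congrQ D e).Ind s α ↔ D.Ind s ((e.trans α).trans e.symm) := by
  constructor
  · intro h n n' hn
    have h1 := h n n' hn
    change e.symm (α (e (D.q n))) = D.q n'
    rw [congrQ_q, congrQ_q] at h1
    rw [h1, e.symm_apply_apply]
  · intro h n n' hn
    have h1 := h n n' hn
    change e.symm (α (e (D.q n))) = D.q n' at h1
    rw [congrQ_q, congrQ_q, ← h1, e.apply_symm_apply]

theorem ind_congrQ' {D : SemiQ F N S} (e : S ≃* S') {s : Semi F} {α : MulAut S} (h : D.Ind s α) :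
    (congrQ D e).Ind s ((e.symm.trans α).trans e) := by
  rw [ind_congrQ]
  have : (e.trans ((e.symm.trans α).trans e)).trans e.symm = α := by
    ext x
    simp
  rw [this]
  exact h

end Congr

end Cfsg.Agent.H464.ExtR3
end

-- part: H464/ExtQSp
section
set_option linter.all false
open scoped Cfsg.Agent.FastGrp

/-!
# `PSp` as a quotient of the isometry group of the symplectic form; its automorphisms (S4832, EXT-R3, helper464)

* `center_quot` : the centre of `G / Z(G)` is trivial for perfect `G`;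
* `semiQ_sp` : `SemiQ (spF K m) ⊤ (PSp m K)` and all automorphisms are induced by semisimilarities (`m ≥ 3`, or `m = 2` and
  `K` of odd characteristic); `center_sp`.
-/

set_option autoImplicit false
set_option linter.unusedSectionVars false

open Cfsg

namespace Cfsg.Agent.H464.ExtR3

open Cfsg.Agent.H576.Ext Cfsg.Agent.H477.HC Cfsg.Agent.H477.HC.CForm Cfsg.Agent.H53.HC Module
open scoped commutatorElement Matrix

universe u v w w'

/-- commutators with `g` -/
def commHom {G : Type u} [Group G] (g : G) (h1 : ∀ h : G, g * h * g⁻¹ * h⁻¹ ∈ Subgroup.center G) :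
    G →* Subgroup.center G :=
  MonoidHom.mk' (fun h => ⟨g * h * g⁻¹ * h⁻¹, h1 h⟩) fun h k => by
    apply Subtype.ext
    change g * (h * k) * g⁻¹ * (h * k)⁻¹ = (g * h * g⁻¹ * h⁻¹) * (g * k * g⁻¹ * k⁻¹)
    have h2 := Subgroup.mem_center_iff.1 (h1 k) h
    have h3 : g * (h * k) * g⁻¹ * (h * k)⁻¹ = (g * h * g⁻¹ * h⁻¹) * (h * (g * k * g⁻¹ * k⁻¹) * h⁻¹) := by
      group
    rw [h3, h2, mul_inv_cancel_right]

theorem commHom_val {G : Type u} [Group G] (g : G) (h1 : ∀ h : G, g * h * g⁻¹ * h⁻¹ ∈ Subgroup.center G) (k : G) :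
    (commHom g h1 k : G) = g * k * g⁻¹ * k⁻¹ := rfl

/-- Grün's lemma -/
theorem center_quot {G : Type u} [Group G] (hG : commutator G = ⊤) : Subgroup.center (G ⧸ Subgroup.center G) = ⊥ := by
  rw [eq_bot_iff]
  intro z hz
  obtain ⟨g, rfl⟩ := QuotientGroup.mk_surjective z
  rw [Subgroup.mem_bot, QuotientGroup.eq_one_iff, Subgroup.mem_center_iff]
  have h1 : ∀ h : G, g * h * g⁻¹ * h⁻¹ ∈ Subgroup.center G := by
    intro h
    have h2 := Subgroup.mem_center_iff.1 hz (QuotientGroup.mk h)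
    rw [← QuotientGroup.mk_mul, ← QuotientGroup.mk_mul, QuotientGroup.eq] at h2
    have h4 : g * h * g⁻¹ * h⁻¹ = (h * g) * ((h * g)⁻¹ * (g * h)) * (h * g)⁻¹ := by group
    rw [h4]
    exact (inferInstance : (Subgroup.center G).Normal).conj_mem _ h2 _
  intro k
  have hk : k ∈ commutator G := by rw [hG]; exact Subgroup.mem_top k
  have hle : commutator G ≤ (commHom g h1).ker := by
    rw [commutator_def, Subgroup.commutator_le]
    intro a _ b _
    rw [MonoidHom.mem_ker, map_commutatorElement, commutatorElement_eq_one_iff_mul_comm]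
    apply Subtype.ext
    exact (Subgroup.mem_center_iff.1 (commHom g h1 a).2 _).symm
  have h4 : commHom g h1 k = 1 := hle hk
  have h5 : g * k * g⁻¹ * k⁻¹ = 1 := by rw [← commHom_val g h1, h4, Subgroup.coe_one]
  rw [mul_inv_eq_one, mul_inv_eq_iff_eq_mul] at h5
  exact h5.symm

section Sp

open ClassicalGeometry.SympAutSemi ClassicalGeometry.SympBasic

variable {K : Type u} [Field K] {m : ℕ}

theorem spF_sympForm (u v : Fin m ⊕ Fin m → K) : (spF K m).B u v = -sympForm m K u v := spF_B_eq u v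

/-- the semisimilarity of a semisimilitude -/
def spS {g : Equiv.Perm (Fin m ⊕ Fin m → K)} {φ : K ≃+* K} {l : K} (hl : l ≠ 0) (h : IsSemi g φ l) :
    Semi (spF K m) where
  τ := φ
  lam := l
  hlam := hl
  γ := { g with map_add' := h.1 }
  smul := h.2.1
  hB := fun v w => by
    change (spF K m).B (g v) (g w) = _
    rw [spF_sympForm, spF_sympForm, h.2.2, map_neg, mul_neg]
  hQ := fun v => by
    change (0 : K) = l * φ 0
    rw [map_zero, mul_zero]

/-- `PSp` -/
noncomputable def spQ (m : ℕ) (K : Type u) [Field K] : SemiQ (spF K m) ⊤ (PSp m K) where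
  q := (QuotientGroup.mk' (Subgroup.center (Matrix.symplecticGroup (Fin m) K))).comp
    ((isoSp m K).symm.toMonoidHom.comp (⊤ : Subgroup (spF K m).iso).subtype)
  surj := by
    intro x
    obtain ⟨A, rfl⟩ := QuotientGroup.mk_surjective x
    refine ⟨⟨isoSp m K A, trivial⟩, ?_⟩
    change QuotientGroup.mk ((isoSp m K).symm (isoSp m K A)) = _
    rw [MulEquiv.symm_apply_apply]
  ker := fun n => by
    obtain ⟨n, -⟩ := n
    obtain ⟨A, rfl⟩ := (isoSp m K).surjective n
    change QuotientGroup.mk ((isoSp m K).symm (isoSp m K A)) = 1 ↔ _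
    rw [MulEquiv.symm_apply_apply, QuotientGroup.eq_one_iff]
    constructor
    · intro h
      rcases Cfsg.Agent.ClassicalGeometry.SympInvolutions.center_eq h with h | h
      · refine ⟨1, fun v => ?_⟩
        rw [isoSp_apply, h, Matrix.one_mulVec, one_smul]
      · refine ⟨-1, fun v => ?_⟩
        rw [isoSp_apply, h, Matrix.neg_mulVec, Matrix.one_mulVec, neg_one_smul]
    · rintro ⟨a, ha⟩
      rw [Subgroup.mem_center_iff]
      intro B
      apply (isoSp m K).injective
      apply Subtype.ext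
      apply LinearEquiv.ext
      intro v
      rw [map_mul, map_mul]
      change (isoSp m K B).1 ((isoSp m K A).1 v) = (isoSp m K A).1 ((isoSp m K B).1 v)
      have ha' : ∀ v, (isoSp m K A).1 v = a • v := ha
      rw [ha', ha', map_smul]
  inv := semi_top

theorem spQ_q (A : Matrix.symplecticGroup (Fin m) K) :
    (spQ m K).q ⟨isoSp m K A, trivial⟩ = QuotientGroup.mk A := by
  change QuotientGroup.mk ((isoSp m K).symm (isoSp m K A)) = _
  rw [MulEquiv.symm_apply_apply]

theorem spQ_ind (g : semiSim m K) : ∃ s : Semi (spF K m), (spQ m K).Ind s (Psi m K g) := by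
  obtain ⟨g, φ, l, hl, hg⟩ := g
  refine ⟨spS hl hg, ?_⟩
  rintro ⟨n, hn⟩ ⟨n', hn'⟩ h
  obtain ⟨A, rfl⟩ := (isoSp m K).surjective n
  obtain ⟨B, rfl⟩ := (isoSp m K).surjective n'
  rw [spQ_q, spQ_q, Psi_mk]
  congr 1
  apply rho_injective
  rw [rho_conjHom]
  ext1 v
  obtain ⟨w, rfl⟩ := g.surjective v
  have h1 := h w
  change (B : Matrix (Fin m ⊕ Fin m) (Fin m ⊕ Fin m) K) *ᵥ (g w) =
    g ((A : Matrix (Fin m ⊕ Fin m) (Fin m ⊕ Fin m) K) *ᵥ w) at h1
  rw [rho_apply, h1]
  change g (rho m K A (g⁻¹ (g w))) = _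
  rw [perm_inv_apply_self, rho_apply]

variable [Finite K]

/-- **`PSp_{2m}(q)`** -/
theorem semiQ_sp (hm : 2 ≤ m) (h : 3 ≤ m ∨ (2 : K) ≠ 0) :
    ∃ D : SemiQ (spF K m) ⊤ (PSp m K), ∀ α : MulAut (PSp m K), ∃ s : Semi (spF K m), D.Ind s α := by
  refine ⟨spQ m K, fun α => ?_⟩
  obtain ⟨g, rfl⟩ := Cfsg.Agent.ClassicalGeometry.SympAutExists.exists_semi hm α
    (Cfsg.Agent.ClassicalGeometry.SympAutOddA.recog hm h α)
  exact spQ_ind g

end Sp

end Cfsg.Agent.H464.ExtR3
end

-- part: H464/ExtQU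
section
set_option linter.all false
open scoped Cfsg.Agent.FastGrp

/-!
# `PSU` as a quotient of the special isometry group of the Hermitian form; its automorphisms (S4832, EXT-R3, helper464)

* `det_clin` : the determinant of `γ g γ⁻¹` is `τ (det g)`;
* `suN hq n` : the isometries of `hermF` of determinant one; `eSUN : SU n F q ≃* suN hq n`;
* `semiQ_psu` : `SemiQ (hermF F hq n) (suN hq n) (PSU n F q)` and all automorphisms are induced by semisimilarities;
  `center_psu`.
-/

set_option autoImplicit false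
set_option linter.unusedSectionVars false

open Cfsg

namespace Cfsg.Agent.H464.ExtR3

open Cfsg.Agent.H576.Ext Cfsg.Agent.H477.HC Cfsg.Agent.H477.HC.CForm Cfsg.Agent.H53.HC Module
open scoped Matrix

universe u v w w'

section Det

variable {K : Type u} [Field K] {ι : Type} [Fintype ι] [DecidableEq ι] {F : CForm K (ι → K)}

/-- `v ↦ τ ∘ v` -/
def coordE (τ : K ≃+* K) : (ι → K) ≃+ (ι → K) where
  toFun v := fun i => τ (v i)
  invFun v := fun i => τ.symm (v i)
  left_inv v := by funext i; exact τ.symm_apply_apply _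
  right_inv v := by funext i; exact τ.apply_symm_apply _
  map_add' u v := by funext i; exact map_add τ _ _

theorem coordE_apply (τ : K ≃+* K) (v : ι → K) (i : ι) : coordE τ v i = τ (v i) := rfl

/-- the linear part of a semisimilarity -/
def linS (s : Semi F) : (ι → K) ≃ₗ[K] (ι → K) :=
  { (coordE s.τ).symm.trans s.γ with
    map_smul' := fun a v => by
      change s.γ ((coordE s.τ).symm (a • v)) = a • s.γ ((coordE s.τ).symm v)
      have h1 : (coordE s.τ).symm (a • v) = s.τ.symm a • (coordE s.τ).symm v := by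
        funext i
        exact map_mul s.τ.symm _ _
      rw [h1, s.smul, s.τ.apply_symm_apply] }

theorem linS_apply (s : Semi F) (v : ι → K) : linS s (coordE s.τ v) = s.γ v := by
  change s.γ ((coordE s.τ).symm (coordE s.τ v)) = s.γ v
  rw [AddEquiv.symm_apply_apply]

theorem map_mulVec (τ : K ≃+* K) (A : Matrix ι ι K) (v : ι → K) :
    (A.map τ) *ᵥ (coordE τ v) = coordE τ (A *ᵥ v) := by
  funext i
  rw [coordE_apply, Matrix.mulVec, Matrix.mulVec, dotProduct, dotProduct, map_sum]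
  refine Finset.sum_congr rfl fun j _ => ?_
  rw [map_mul, Matrix.map_apply, coordE_apply]

/-- the determinant of `γ g γ⁻¹` -/
theorem det_clin (s : Semi F) (g : (ι → K) ≃ₗ[K] (ι → K)) :
    LinearMap.det (s.clin g : (ι → K) →ₗ[K] (ι → K)) = s.τ (LinearMap.det (g : (ι → K) →ₗ[K] (ι → K))) := by
  obtain ⟨A, hA⟩ : ∃ A : Matrix ι ι K, A = LinearMap.toMatrix' (g : (ι → K) →ₗ[K] (ι → K)) := ⟨_, rfl⟩
  have hg : ∀ v, g v = A *ᵥ v := fun v => by rw [hA, LinearMap.toMatrix'_mulVec]; rfl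
  have h1 : (s.clin g : (ι → K) →ₗ[K] (ι → K)) =
      (linS s : (ι → K) →ₗ[K] (ι → K)) ∘ₗ Matrix.toLin' (A.map s.τ) ∘ₗ ((linS s).symm : (ι → K) →ₗ[K] (ι → K)) := by
    apply LinearMap.ext
    intro v
    obtain ⟨v, rfl⟩ := (linS s).surjective v
    obtain ⟨v, rfl⟩ := (coordE s.τ).surjective v
    change s.clin g (linS s (coordE s.τ v)) = linS s (Matrix.toLin' (A.map s.τ) ((linS s).symm (linS s (coordE s.τ v))))
    rw [LinearEquiv.symm_apply_apply, Matrix.toLin'_apply, map_mulVec, linS_apply, linS_apply, s.clin_apply,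
      s.γ.symm_apply_apply, hg]
  rw [h1, LinearMap.det_conj, LinearMap.det_toLin', hA, ← LinearMap.det_toMatrix']
  exact (RingHom.map_det (s.τ : K →+* K) _).symm

end Det

section PSU

open LieClassical.HermBasic LieClassical.HermSiegel ClassicalGeometry.PSUAutBasic
open Cfsg.Agent.ClassicalGeometry.PSUAutCount (gm semiConj toAut herm_gm act_semiConj herm_semi gm_inv_mulVec
  gm_mulVec_inv toAut_pr)

variable {K : Type u} [Field K] [Fintype K] {q n : ℕ}

/-- the isometries of determinant one -/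
def suN (hq : Nat.card K = q ^ 2) (n : ℕ) : Subgroup (hermF K hq n).iso where
  carrier := {g | LinearMap.det ((g : (Fin n → K) ≃ₗ[K] (Fin n → K)) : (Fin n → K) →ₗ[K] (Fin n → K)) = 1}
  one_mem' := LinearMap.det_id
  mul_mem' := by
    intro a b ha hb
    change LinearMap.det (((a : (Fin n → K) ≃ₗ[K] (Fin n → K)) : (Fin n → K) →ₗ[K] (Fin n → K)) ∘ₗ
      ((b : (Fin n → K) ≃ₗ[K] (Fin n → K)) : (Fin n → K) →ₗ[K] (Fin n → K))) = 1
    rw [LinearMap.det_comp, ha, hb, mul_one]
  inv_mem' := by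
    intro a ha
    have ha' : LinearMap.det ((a : (Fin n → K) ≃ₗ[K] (Fin n → K)) : (Fin n → K) →ₗ[K] (Fin n → K)) = 1 := ha
    have h1 := LinearEquiv.det_symm_mul_det (a : (Fin n → K) ≃ₗ[K] (Fin n → K))
    rw [ha', mul_one] at h1
    exact h1

theorem mem_suN {hq : Nat.card K = q ^ 2} {g : (hermF K hq n).iso} : g ∈ suN hq n ↔
    LinearMap.det ((g : (Fin n → K) ≃ₗ[K] (Fin n → K)) : (Fin n → K) →ₗ[K] (Fin n → K)) = 1 := Iff.rfl

theorem det_isoGU (hq : Nat.card K = q ^ 2) (g : GU n K q) :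
    LinearMap.det (((isoGU hq n g : (hermF K hq n).iso) : (Fin n → K) ≃ₗ[K] (Fin n → K)) : (Fin n → K) →ₗ[K] (Fin n → K)) =
      ((g : GL (Fin n) K) : Matrix (Fin n) (Fin n) K).det := by
  rw [← LinearMap.det_toLin']
  rfl

open H113.PSU.Descent in
/-- `SU ≃* suN` -/
noncomputable def eSUN (hq : Nat.card K = q ^ 2) (n : ℕ) : SU n K q ≃* suN hq n :=
  MulEquiv.ofBijective (((isoGU hq n).toMonoidHom.comp (toGU n K q)).codRestrict (suN hq n) (fun g => by
    rw [mem_suN]
    refine (det_isoGU hq (toGU n K q g)).trans ?_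
    exact (g : Matrix.SpecialLinearGroup (Fin n) K).2))
    ⟨fun a b h => toGU_injective ((isoGU hq n).injective (congrArg Subtype.val h)), fun x => by
      obtain ⟨y, hy⟩ := (isoGU hq n).surjective (x : (hermF K hq n).iso)
      have h1 : ((y : GL (Fin n) K) : Matrix (Fin n) (Fin n) K).det = 1 := by
        rw [← det_isoGU hq, hy]
        exact x.2
      refine ⟨⟨⟨((y : GU n K q) : GL (Fin n) K).1, h1⟩, y.2⟩, ?_⟩
      apply Subtype.ext
      rw [← hy]
      change isoGU hq n (toGU n K q _) = isoGU hq n y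
      congr 1
      apply Subtype.ext
      exact Units.ext rfl⟩

theorem suN_inv (hq : Nat.card K = q ^ 2) (s : Semi (hermF K hq n)) (m : suN hq n) : ∃ m' : suN hq n, ∀ v,
    ((m' : (hermF K hq n).iso) : (Fin n → K) ≃ₗ[K] (Fin n → K)) (s.γ v) =
      s.γ (((m : (hermF K hq n).iso) : (Fin n → K) ≃ₗ[K] (Fin n → K)) v) := by
  refine ⟨⟨s.conj m, ?_⟩, fun v => s.conj_γ _ v⟩
  rw [mem_suN]
  refine (det_clin s _).trans ?_
  rw [mem_suN.1 m.2, map_one]

/-- `PSU` -/
noncomputable def psuQ (hF : Fintype.card K = q ^ 2) (hq : Nat.card K = q ^ 2) (hn : 3 ≤ n) :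
    SemiQ (hermF K hq n) (suN hq n) (PSU n K q) where
  q := (QuotientGroup.mk' (Subgroup.center (SU n K q))).comp (eSUN hq n).symm.toMonoidHom
  surj := (QuotientGroup.mk'_surjective _).comp (eSUN hq n).symm.surjective
  ker := fun m => by
    obtain ⟨g, rfl⟩ := (eSUN hq n).surjective m
    change QuotientGroup.mk ((eSUN hq n).symm (eSUN hq n g)) = 1 ↔ _
    rw [MulEquiv.symm_apply_apply, QuotientGroup.eq_one_iff]
    constructor
    · intro h
      obtain ⟨c, -, -, hc⟩ := exists_scalar_of_mem_center hF hn h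
      exact ⟨c, hc⟩
    · rintro ⟨a, ha⟩
      have ha' : ∀ v, act g v = a • v := ha
      rw [Subgroup.mem_center_iff]
      intro k
      apply (eSUN hq n).injective
      apply Subtype.ext
      apply Subtype.ext
      apply LinearEquiv.ext
      intro v
      change act (k * g) v = act (g * k) v
      rw [act_mul, act_mul, ha', ha', act_smul]
  inv := suN_inv hq

theorem psuQ_q (hF : Fintype.card K = q ^ 2) (hq : Nat.card K = q ^ 2) (hn : 3 ≤ n) (g : SU n K q) :
    (psuQ hF hq hn).q (eSUN hq n g) = QuotientGroup.mk g := by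
  change QuotientGroup.mk ((eSUN hq n).symm (eSUN hq n g)) = _
  rw [MulEquiv.symm_apply_apply]

theorem herm_coord (A : GU n K q) (ρ : K ≃+* K) (u v : Fin n → K) :
    hermForm n K q (gm A *ᵥ coordE ρ u) (gm A *ᵥ coordE ρ v) = ρ (hermForm n K q u v) := herm_semi A ρ u v

/-- the semi-isometry `v ↦ A (ρ ∘ v)` -/
def guS (hq : Nat.card K = q ^ 2) (A : GU n K q) (ρ : K ≃+* K) : Semi (hermF K hq n) where
  τ := ρ
  lam := 1
  hlam := one_ne_zero
  γ := (coordE ρ).trans (matE (A : GL (Fin n) K)).toAddEquiv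
  smul := fun a v => by
    change gm A *ᵥ coordE ρ (a • v) = ρ a • (gm A *ᵥ coordE ρ v)
    have : coordE ρ (a • v) = ρ a • coordE ρ v := by
      funext i
      exact map_mul ρ _ _
    rw [this, Matrix.mulVec_smul]
  hB := fun v w => by
    rw [one_mul]
    exact herm_coord A ρ v w
  hQ := fun v => by
    rw [one_mul]
    exact herm_coord A ρ v v

theorem psuQ_ind (hF : Fintype.card K = q ^ 2) (hq : Nat.card K = q ^ 2) (hn : 3 ≤ n) (A : GU n K q) (ρ : K ≃+* K) :
    (psuQ hF hq hn).Ind (guS hq A ρ) (toAut A ρ) := by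
  intro m m' h
  obtain ⟨g, rfl⟩ := (eSUN hq n).surjective m
  obtain ⟨g', rfl⟩ := (eSUN hq n).surjective m'
  rw [psuQ_q, psuQ_q]
  have h0 : toAut A ρ (QuotientGroup.mk g) = QuotientGroup.mk (semiConj A ρ g) := toAut_pr A ρ g
  rw [h0]
  congr 1
  apply (eSUN hq n).injective
  apply Subtype.ext
  apply Subtype.ext
  apply LinearEquiv.ext
  intro v
  obtain ⟨w, rfl⟩ := (guS hq A ρ).γ.surjective v
  refine Eq.trans ?_ (h w).symm
  exact act_semiConj A ρ g w

/-- **`PSU_n(q)`** -/
theorem semiQ_psu (hF : Fintype.card K = q ^ 2) (hq : Nat.card K = q ^ 2) (hn : 3 ≤ n) (h32 : ¬ (n = 3 ∧ q = 2)) :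
    ∃ D : SemiQ (hermF K hq n) (suN hq n) (PSU n K q), ∀ α : MulAut (PSU n K q), ∃ s : Semi (hermF K hq n), D.Ind s α := by
  refine ⟨psuQ hF hq hn, fun α => ?_⟩
  obtain ⟨A, ρ, rfl⟩ := ClassicalGeometry.PSUAutMain.exists_toAut hF hn h32 α
  exact ⟨_, psuQ_ind hF hq hn A ρ⟩

theorem center_psu (hF : Fintype.card K = q ^ 2) (hn : 3 ≤ n) (h32 : ¬ (n = 3 ∧ q = 2)) :
    Subgroup.center (PSU n K q) = ⊥ :=
  center_quot (LieClassical.HermPerfect.commutator_SU_eq_top hF hn h32)

end PSU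

end Cfsg.Agent.H464.ExtR3
end
end
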